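import Cfsg.Agent.H907.Four.PslDiag
import Cfsg.Agent.H307.FourOdd.Defs

/-!
# `Row3` for `PSL_n(q)`, `q` even (TEAM FOUR, S4947, task FOUR-QE-BL)
-/

set_option autoImplicit false
set_option linter.unusedSectionVars false

namespace Cfsg.Agent.H907.Four

open Matrix Cfsg
open Cfsg.Agent.H307.FourOdd
open Cfsg.Agent.ClassicalGeometry.AutPSL.Root
open Cfsg.Agent.ClassicalGeometry.AutPSL.Auto
open Cfsg.Agent.ClassicalGeometry.AutPSL.SylowU

universe u

/-- the criterion (EB) of TEAM FOUR: two non-conjugate elements of odd order of the normalizer of a Sylow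
`2`-subgroup, with `τ`-stable classes. -/
def EB (S : Type u) [Group S] : Prop :=
  ∀ τ : S ≃* S, (∃ a : S, ∀ x, τ (τ x) = a * x * a⁻¹) → ∀ (P : Sylow 2 S) (t₁ t₂ : S),
    t₁ ∈ Subgroup.normalizer ((P : Subgroup S) : Set S) → t₂ ∈ Subgroup.normalizer ((P : Subgroup S) : Set S) →
    Odd (orderOf t₁) → Odd (orderOf t₂) → t₁ ≠ 1 → t₂ ≠ 1 → ¬ IsConj t₁ t₂ → IsConj t₁ (τ t₁) →
    IsConj t₂ (τ t₂) → 3 ≤ K0t S τ

section field

variable {F : Type*} [Field F] [Fintype F]

theorem exists_notin (h4 : 4 < Fintype.card F) (a b c d : F) : ∃ x : F, x ≠ a ∧ x ≠ b ∧ x ≠ c ∧ x ≠ d := by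
  classical
  have h1 : ({a, b, c, d} : Finset F).card < (Finset.univ : Finset F).card := by
    rw [Finset.card_univ]
    exact lt_of_le_of_lt Finset.card_le_four h4
  obtain ⟨x, -, hx⟩ := Finset.exists_mem_notMem_of_card_lt_card h1
  simp only [Finset.mem_insert, Finset.mem_singleton, not_or] at hx
  exact ⟨x, hx.1, hx.2.1, hx.2.2.1, hx.2.2.2⟩

theorem false_of_quad (h2 : (2 : F) = 0) (h4 : 4 < Fintype.card F)
    (h : ∀ y : F, y ≠ 0 → y ≠ 1 → y * y + y + 1 = 0) : False := by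
  obtain ⟨y, hy0, hy1, -, -⟩ := exists_notin h4 0 1 0 1
  obtain ⟨z, hz0, hz1, hz2, hz3⟩ := exists_notin h4 0 1 y (y + 1)
  have h1 : (z - y) * (z - (y + 1)) = 0 := by
    linear_combination h z hz0 hz1 + h y hy0 hy1 - (z + y * z + 1) * h2
  rcases mul_eq_zero.1 h1 with h | h
  · exact hz2 (sub_eq_zero.1 h)
  · exact hz3 (sub_eq_zero.1 h)

theorem inv_ne (h2 : (2 : F) = 0) {x : F} (h0 : x ≠ 0) (h1 : x ≠ 1) : x ≠ x⁻¹ := by
  intro h
  have h3 : x * x = 1 := by
    nth_rewrite 2 [h]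
    exact mul_inv_cancel₀ h0
  have h4 : (x - 1) * (x - 1) = 0 := by linear_combination h3 - (x - 1) * h2
  exact h1 (sub_eq_zero.1 (mul_self_eq_zero.1 h4))

theorem exists_two (h2 : (2 : F) = 0) (h4 : 4 < Fintype.card F) (σ : F ≃+* F)
    (hσ : ∀ l : F, l ≠ 0 → σ (σ l) = l ∨ σ (σ l) = l⁻¹) :
    ∃ l m : F, l ≠ 0 ∧ l ≠ 1 ∧ m ≠ 0 ∧ m ≠ 1 ∧ m ≠ l ∧ m ≠ l⁻¹ ∧ (σ l = l ∨ σ l = l⁻¹) ∧
      (σ m = m ∨ σ m = m⁻¹) := by
  -- `σ² = 1`
  have sq : ∀ x, σ (σ x) = x := by
    by_contra hno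
    push Not at hno
    obtain ⟨x, hx⟩ := hno
    have hx0 : x ≠ 0 := by rintro rfl; simp at hx
    have hxi := (hσ x hx0).resolve_left hx
    have hx1 : x ≠ 1 := by rintro rfl; simp at hx
    have all : ∀ y : F, y ≠ 0 → σ (σ y) = y⁻¹ := by
      intro y hy0
      by_contra hyn
      have hy := (hσ y hy0).resolve_right hyn
      have hy1 : y ≠ 1 := by rintro rfl; simp at hyn
      have h5 : σ (σ (x * y)) = x⁻¹ * y := by rw [map_mul, map_mul, hxi, hy]
      rcases hσ (x * y) (mul_ne_zero hx0 hy0) with h | h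
      · rw [h5] at h
        exact inv_ne h2 hx0 hx1 (mul_right_cancel₀ hy0 h).symm
      · rw [h5, mul_inv] at h
        exact inv_ne h2 hy0 hy1 (mul_left_cancel₀ (inv_ne_zero hx0) h)
    apply false_of_quad h2 h4
    intro y hy0 hy1
    have hy2 : 1 + y ≠ 0 := by
      intro h
      apply hy1
      linear_combination h - h2
    have h6 := all (1 + y) hy2
    rw [map_add, map_add, map_one, map_one, all y hy0] at h6
    have h7 : (1 + y⁻¹) * (1 + y) = 1 := by rw [h6, inv_mul_cancel₀ hy2]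
    have h8 : y⁻¹ * y = 1 := inv_mul_cancel₀ hy0
    have h9 : y * ((1 + y⁻¹) * (1 + y)) = y := by rw [h7, mul_one]
    linear_combination h9 - (1 + y) * h8
  by_cases hid : ∀ x, σ x = x
  · obtain ⟨l, hl0, hl1, -, -⟩ := exists_notin h4 0 1 0 1
    obtain ⟨m, hm0, hm1, hm2, hm3⟩ := exists_notin h4 0 1 l l⁻¹
    exact ⟨l, m, hl0, hl1, hm0, hm1, hm2, hm3, Or.inl (hid l), Or.inl (hid m)⟩
  · push Not at hid
    obtain ⟨y, hy⟩ := hid
    have hy0 : y ≠ 0 := by rintro rfl; simp at hy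
    have hsy0 : σ y ≠ 0 := fun h => hy0 ((map_eq_zero_iff σ σ.injective).1 h)
    obtain ⟨l, hl, hl0, hl1⟩ : ∃ l : F, σ l = l ∧ l ≠ 0 ∧ l ≠ 1 := by
      by_contra hno
      push Not at hno
      have fix01 : ∀ l, σ l = l → l = 0 ∨ l = 1 := by
        intro l hl
        by_cases h0 : l = 0
        · exact Or.inl h0
        · exact Or.inr (hno l hl h0)
      apply false_of_quad h2 h4
      intro z hz0 hz1
      have hz : σ z ≠ z := by
        intro h
        rcases fix01 z h with h | h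
        · exact hz0 h
        · exact hz1 h
      have hsz0 : σ z ≠ 0 := fun h => hz0 ((map_eq_zero_iff σ σ.injective).1 h)
      have hadd : σ (z + σ z) = z + σ z := by rw [map_add, sq, add_comm]
      have hmul : σ (z * σ z) = z * σ z := by rw [map_mul, sq, mul_comm]
      have e1 : z + σ z = 1 := by
        rcases fix01 _ hadd with h | h
        · exfalso
          apply hz
          linear_combination h - z * h2
        · exact h
      have e2 : z * σ z = 1 := (fix01 _ hmul).resolve_left (mul_ne_zero hz0 hsz0)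
      have e3 : σ z = 1 - z := by linear_combination e1
      rw [e3] at e2
      linear_combination (-1 : F) * e2 + z * h2
    have hm1 : σ y / y ≠ 1 := fun h => hy ((div_eq_one_iff_eq hy0).1 h)
    have hm0 : σ y / y ≠ 0 := div_ne_zero hsy0 hy0
    have hm : σ (σ y / y) = (σ y / y)⁻¹ := by rw [map_div₀, sq, inv_div]
    have hml : σ (σ y / y) ≠ σ y / y := by
      rw [hm]
      exact (inv_ne h2 hm0 hm1).symm
    refine ⟨l, σ y / y, hl0, hl1, hm0, hm1, ?_, ?_, Or.inl hl, Or.inr hm⟩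
    · intro h
      exact hml (by rw [h]; exact hl)
    · intro h
      exact hml (by rw [h, map_inv₀, hl])

theorem four_case (h4 : Fintype.card F = 4) (h2 : (2 : F) = 0) (σ : F ≃+* F) {l : F} (h0 : l ≠ 0) (h1 : l ≠ 1) :
    σ l = l ∨ σ l = l⁻¹ := by
  classical
  have hs0 : σ l ≠ 0 := fun h => h0 ((map_eq_zero_iff σ σ.injective).1 h)
  have hs1 : σ l ≠ 1 := fun h => h1 (by rw [← map_one σ] at h; exact σ.injective h)
  have hi := inv_ne h2 h0 h1
  have hc : ({0, 1, l, l⁻¹} : Finset F).card = (Finset.univ : Finset F).card := by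
    rw [Finset.card_univ, h4]
    rw [Finset.card_insert_of_notMem, Finset.card_insert_of_notMem, Finset.card_insert_of_notMem,
      Finset.card_singleton]
    · simpa using hi
    · simp only [Finset.mem_insert, Finset.mem_singleton, not_or]
      exact ⟨h1.symm, fun h => h1 (inv_eq_one.1 h.symm)⟩
    · simp only [Finset.mem_insert, Finset.mem_singleton, not_or]
      exact ⟨zero_ne_one, h0.symm, (inv_ne_zero h0).symm⟩
  have hu := (Finset.card_eq_iff_eq_univ _).1 (hc.trans Finset.card_univ)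
  have hm : σ l ∈ ({0, 1, l, l⁻¹} : Finset F) := by rw [hu]; exact Finset.mem_univ _
  simp only [Finset.mem_insert, Finset.mem_singleton] at hm
  rcases hm with h | h | h | h
  · exact absurd h hs0
  · exact absurd h hs1
  · exact Or.inl h
  · exact Or.inr h

end field

section row

variable {n : ℕ} {F : Type} [Field F] [Fintype F]

theorem row3_of_EB (h2 : (2 : F) = 0) (hn : 3 ≤ n) (h4 : 4 ≤ Fintype.card F)
    (hne : ¬ (n = 3 ∧ Fintype.card F = 4)) (hEB : EB (Matrix.ProjectiveSpecialLinearGroup (Fin n) F)) :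
    Row3 (Matrix.ProjectiveSpecialLinearGroup (Fin n) F) := by
  intro τ hτ
  have : CharP F 2 := CharTwo.of_one_ne_zero_of_two_eq_zero one_ne_zero h2
  obtain ⟨P, hP⟩ := exists_sylow (F := F) n 2
  obtain ⟨σ, hσ⟩ := exists_aut hn (τ : MulAut (Matrix.ProjectiveSpecialLinearGroup (Fin n) F))
  have hnz : NeZero n := ⟨by omega⟩
  let i0 : Fin n := ⟨0, by omega⟩
  let i1 : Fin n := ⟨1, by omega⟩
  let i2 : Fin n := ⟨2, by omega⟩
  have h01 : i0 ≠ i1 := by simp [i0, i1]
  have h02 : i0 ≠ i2 := by simp [i0, i2]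
  have h12 : i1 ≠ i2 := by simp [i1, i2]
  have fixl : ∀ l : F, (hl0 : l ≠ 0) → (σ l = l ∨ σ l = l⁻¹) →
      IsConj (pr (dg _ (prod_dl h01 hl0))) (τ (pr (dg _ (prod_dl h01 hl0)))) := by
    intro l hl0 hl
    refine isConj_aut hn hσ (π := Equiv.swap i0 i1) (dl_swap h01 l) ?_
    rcases hl with hl | hl
    · left; intro i; rw [dl_map, hl]
    · right; intro i; rw [dl_map, hl, dl_inv]
  have ne1 : ∀ l : F, (hl0 : l ≠ 0) → l ≠ 1 → pr (dg _ (prod_dl h01 hl0)) ≠ 1 := by
    intro l hl0 hl1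
    refine pr_dg_ne_one (i := i0) (j := i2) ?_
    rw [dl_zero, dl_other h02.symm h12.symm]
    exact hl1
  by_cases hq : Fintype.card F = 4
  · have hn4 : 4 ≤ n := by
      by_contra h
      exact hne ⟨by omega, hq⟩
    obtain ⟨l, hl0, hl1⟩ : ∃ l : F, l ≠ 0 ∧ l ≠ 1 := by
      classical
      have h1 : ({0, 1} : Finset F).card < (Finset.univ : Finset F).card := by
        rw [Finset.card_univ, hq]
        exact lt_of_le_of_lt Finset.card_le_two (by norm_num)
      obtain ⟨x, -, hx⟩ := Finset.exists_mem_notMem_of_card_lt_card h1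
      simp only [Finset.mem_insert, Finset.mem_singleton, not_or] at hx
      exact ⟨x, hx.1, hx.2⟩
    let i3 : Fin n := ⟨3, by omega⟩
    have h03 : i0 ≠ i3 := by simp [i0, i3]
    have h13 : i1 ≠ i3 := by simp [i1, i3]
    have h23 : i2 ≠ i3 := by simp [i2, i3]
    have hl := four_case hq h2 σ hl0 hl1
    refine hEB τ hτ P (pr (dg _ (prod_dll h01 h23 hl0))) (pr (dg _ (prod_dl h01 hl0)))
      (dg_mem_normalizer _ hP) (dg_mem_normalizer _ hP) (odd_orderOf h2 _ _) (odd_orderOf h2 _ _) ?_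
      (ne1 l hl0 hl1) (not_conj_dll h01 h02 h03 h12 h13 h23 hl0 (inv_ne h2 hl0 hl1)) ?_ (fixl l hl0 hl)
    · refine pr_dg_ne_one (i := i0) (j := i1) ?_
      rw [dll, dll, dl_zero, dl_other h02 h03, dl_one h01, dl_other h12 h13, mul_one, mul_one]
      exact inv_ne h2 hl0 hl1
    · refine isConj_aut hn hσ (π := Equiv.swap i0 i1 * Equiv.swap i2 i3) ?_ ?_
      · intro i
        rw [Equiv.Perm.mul_apply, dll, dl_swap h01, dll, mul_inv]
        congr 1
        · congr 1
          by_cases e2 : i = i2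
          · subst e2; rw [Equiv.swap_apply_left, dl_other h03.symm h13.symm, dl_other h02.symm h12.symm]
          · by_cases e3 : i = i3
            · subst e3; rw [Equiv.swap_apply_right, dl_other h03.symm h13.symm, dl_other h02.symm h12.symm]
            · rw [Equiv.swap_apply_of_ne_of_ne e2 e3]
        · rw [← dl_swap h23]
          obtain ⟨j, hj⟩ : ∃ j, j = Equiv.swap i2 i3 i := ⟨_, rfl⟩
          rw [← hj]
          by_cases e0 : j = i0
          · subst e0; rw [Equiv.swap_apply_left, dl_other h12 h13, dl_other h02 h03]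
          · by_cases e1 : j = i1
            · subst e1; rw [Equiv.swap_apply_right, dl_other h12 h13, dl_other h02 h03]
            · rw [Equiv.swap_apply_of_ne_of_ne e0 e1]
      · rcases hl with hl | hl
        · left; intro i; rw [dll, map_mul, dl_map, dl_map, hl]
        · right; intro i; rw [dll, map_mul, dl_map, dl_map, hl, mul_inv, dl_inv, dl_inv]
  · have hsq : ∀ l : F, l ≠ 0 → σ (σ l) = l ∨ σ (σ l) = l⁻¹ := by
      intro l hl0
      by_cases hl1 : l = 1
      · left; rw [hl1, map_one, map_one]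
      have hs0 : σ l ≠ 0 := fun h => hl0 ((map_eq_zero_iff σ σ.injective).1 h)
      have hss0 : σ (σ l) ≠ 0 := fun h => hs0 ((map_eq_zero_iff σ σ.injective).1 h)
      have hss1 : σ (σ l) ≠ 1 := by
        intro h
        apply hl1
        apply σ.injective
        apply σ.injective
        rw [h, map_one, map_one]
      refine eq_of_range h01 h02 h12 h2 hl0 hl1 hss0 hss1 (h := prod_dl h01 hl0) (h' := prod_dl h01 hss0) ?_
      -- `τ²` is inner
      have e1 : ∀ m : F, (hm : m ≠ 0) → (hsm : σ m ≠ 0) →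
          IsConj (pr (dg _ (prod_dl h01 hsm))) (τ (pr (dg _ (prod_dl h01 hm)))) := by
        intro m hm hsm
        have h5 : ∏ i, σ (dl i0 i1 m i) = 1 := by rw [← map_prod, prod_dl h01 hm, map_one]
        have h6 := hσ _ (prod_dl h01 hm) (Equiv.swap i0 i1) (dl_swap h01 m) h5
        rw [dg_congr (funext fun i => dl_map σ i0 i1 m i) h5 (prod_dl h01 hsm)] at h6
        exact h6
      have e2 := e1 l hl0 hs0
      have e3 := e1 (σ l) hs0 hss0
      have e4 : IsConj (τ (pr (dg _ (prod_dl h01 hs0)))) (τ (τ (pr (dg _ (prod_dl h01 hl0))))) :=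
        MonoidHom.map_isConj τ.toMonoidHom e2
      obtain ⟨a, ha⟩ := hτ
      have e5 : IsConj (pr (dg _ (prod_dl h01 hl0))) (τ (τ (pr (dg _ (prod_dl h01 hl0))))) :=
        isConj_iff.2 ⟨a, (ha _).symm⟩
      exact e5.trans (e3.trans e4).symm
    obtain ⟨l, m, hl0, hl1, hm0, hm1, hml, hmi, hl, hm⟩ := exists_two h2 (by omega) σ hsq
    refine hEB τ hτ P (pr (dg _ (prod_dl h01 hl0))) (pr (dg _ (prod_dl h01 hm0)))
      (dg_mem_normalizer _ hP) (dg_mem_normalizer _ hP) (odd_orderOf h2 _ _) (odd_orderOf h2 _ _)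
      (ne1 l hl0 hl1) (ne1 m hm0 hm1) ?_ (fixl l hl0 hl) (fixl m hm0 hm)
    intro hc
    rcases eq_of_range h01 h02 h12 h2 hl0 hl1 hm0 hm1 hc with h | h
    · exact hml h
    · exact hmi h

end row

end Cfsg.Agent.H907.Four
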